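import Mathlib

/-!
Sequences of polynomials whose leading monomials, for a weight, have disjoint supports.
-/

set_option autoImplicit false
set_option linter.unusedSectionVars false

universe u

open MvPolynomial

namespace Groth.Agent.L3Lib

variable {σ : Type*} {A : Type u} [CommRing A]

/-- The weight of an exponent. -/
noncomputable def wt (w : σ → ℕ) (β : σ →₀ ℕ) : ℕ := Finsupp.weight w β

theorem wt_add (w : σ → ℕ) (β γ : σ →₀ ℕ) : wt w (β + γ) = wt w β + wt w γ := map_add _ _ _

theorem wt_single (w : σ → ℕ) (i : σ) (n : ℕ) : wt w (Finsupp.single i n) = n * w i := by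
  simp [wt, Finsupp.weight_single]

/-- All monomials have weight below the bound. -/
def Lt (w : σ → ℕ) (p : MvPolynomial σ A) (N : ℕ) : Prop := ∀ β ∈ p.support, wt w β < N

theorem lt_coeff {w : σ → ℕ} {p : MvPolynomial σ A} {N : ℕ} (h : Lt w p N) {β : σ →₀ ℕ} (hβ : N ≤ wt w β) :
    coeff β p = 0 := by
  by_contra h0
  exact (h β (mem_support_iff.mpr h0)).not_ge hβ

theorem lt_of_coeff {w : σ → ℕ} {p : MvPolynomial σ A} {N : ℕ} (h : ∀ β, N ≤ wt w β → coeff β p = 0) :
    Lt w p N := fun β hβ => by
  by_contra h0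
  exact mem_support_iff.mp hβ (h β (not_lt.mp h0))

/-- The leading monomial of `f` is `α`, with unit coefficient. -/
structure Lead (w : σ → ℕ) (f : MvPolynomial σ A) (α : σ →₀ ℕ) : Prop where
  isUnit : IsUnit (coeff α f)
  other : ∀ β, β ≠ α → wt w α ≤ wt w β → coeff β f = 0

theorem lead_lt {w : σ → ℕ} {f : MvPolynomial σ A} {α : σ →₀ ℕ} (h : Lead w f α) :
    Lt w (f - monomial α (coeff α f)) (wt w α) := lt_of_coeff fun β hβ => by
  classical
  rw [coeff_sub, coeff_monomial]
  split_ifs with hαβ
  · subst hαβ; exact sub_self _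
  · rw [h.other β (Ne.symm hαβ) hβ, sub_zero]

theorem lt_sub {w : σ → ℕ} {p q : MvPolynomial σ A} {N : ℕ} (hp : Lt w p N) (hq : Lt w q N) : Lt w (p - q) N :=
  lt_of_coeff fun β hβ => by rw [coeff_sub, lt_coeff hp hβ, lt_coeff hq hβ, sub_zero]

theorem lt_mono {w : σ → ℕ} {p : MvPolynomial σ A} {N M : ℕ} (hp : Lt w p N) (h : N ≤ M) : Lt w p M :=
  fun β hβ => (hp β hβ).trans_le h

theorem lt_mul {w : σ → ℕ} {p q : MvPolynomial σ A} {N M : ℕ} (hp : Lt w p (N + 1)) (hq : Lt w q M) :
    Lt w (p * q) (N + M) := by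
  classical
  intro β hβ
  obtain ⟨a, ha, b, hb, rfl⟩ := Finset.mem_add.mp (support_mul p q hβ)
  have h1 := hp a ha
  have h2 := hq b hb
  rw [wt_add]; omega

variable (w : σ → ℕ) (s : List (MvPolynomial σ A × (σ →₀ ℕ)))

/-- The ideal of the sequence. -/
noncomputable def idl : Ideal (MvPolynomial σ A) := Ideal.ofList (s.map Prod.fst)

/-- Each entry has the prescribed leading monomial, and these have disjoint supports. -/
def Good : Prop :=
  (∀ p ∈ s, Lead w p.1 p.2) ∧ (s.map Prod.snd).Pairwise fun α β => Disjoint α.support β.support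

/-- The top monomials of members of the ideal are divisible by a leading monomial. -/
def Groebner : Prop :=
  ∀ (N : ℕ) (y : MvPolynomial σ A), y ∈ idl s → Lt w y (N + 1) →
    ∀ β, wt w β = N → coeff β y ≠ 0 → ∃ p ∈ s, p.2 ≤ β

variable {w s}

/-- Removing the top monomials divisible by leading monomials. -/
theorem exists_reduce (hg : ∀ p ∈ s, Lead w p.1 p.2) {N : ℕ} {y : MvPolynomial σ A} (hy : Lt w y (N + 1))
    (hdiv : ∀ β, wt w β = N → coeff β y ≠ 0 → ∃ p ∈ s, p.2 ≤ β) :
    ∃ c ∈ idl s, Lt w c (N + 1) ∧ Lt w (y - c) N := by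
  classical
  let S := y.support.filter fun β => wt w β = N
  suffices h : ∀ T ⊆ S, ∃ c ∈ idl s, Lt w c (N + 1) ∧ ∀ β, wt w β = N → coeff β c = if β ∈ T then coeff β y else 0 by
    obtain ⟨c, hc, hcN, hcc⟩ := h S subset_rfl
    refine ⟨c, hc, hcN, lt_of_coeff fun β hβ => ?_⟩
    rw [coeff_sub]
    rcases hβ.eq_or_lt with hN | hN
    · rw [hcc β hN.symm]
      split_ifs with hS
      · exact sub_self _
      · rw [sub_zero]
        by_contra h0
        exact hS (Finset.mem_filter.mpr ⟨mem_support_iff.mpr h0, hN.symm⟩)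
    · rw [lt_coeff hy hN, lt_coeff hcN hN, sub_zero]
  intro T hT
  induction T using Finset.induction with
  | empty => exact ⟨0, zero_mem _, fun β hβ => by simp at hβ, fun β _ => by simp⟩
  | @insert β₀ T hβ₀ ih =>
    obtain ⟨c, hc, hcN, hcc⟩ := ih (fun x hx => hT (Finset.mem_insert_of_mem hx))
    obtain ⟨hmem, hwt⟩ := Finset.mem_filter.mp (hT (Finset.mem_insert_self _ _))
    obtain ⟨p, hp, hle⟩ := hdiv β₀ hwt (mem_support_iff.mp hmem)
    obtain ⟨u, hu⟩ := (hg p hp).isUnit
    let m : MvPolynomial σ A := monomial (β₀ - p.2) (coeff β₀ y * ↑u⁻¹)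
    have hsum : β₀ - p.2 + p.2 = β₀ := tsub_add_cancel_of_le hle
    have hm : Lt w m (wt w (β₀ - p.2) + 1) := fun β hβ => by
      rw [Finset.mem_singleton.mp (support_monomial_subset hβ)]; omega
    have hlow : Lt w (m * (p.1 - monomial p.2 (coeff p.2 p.1))) N := by
      refine lt_mono (lt_mul hm (lead_lt (hg p hp))) (le_of_eq ?_)
      rw [← wt_add, hsum, hwt]
    have hdec : m * p.1 = monomial β₀ (coeff β₀ y) + m * (p.1 - monomial p.2 (coeff p.2 p.1)) := by
      rw [mul_sub, monomial_mul, hsum, ← hu, mul_assoc, Units.inv_mul, mul_one]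
      ring
    refine ⟨c + m * p.1, add_mem hc (Ideal.mul_mem_left _ _ (Ideal.subset_span
      (List.mem_map_of_mem (f := Prod.fst) hp))), lt_of_coeff fun β hβ => ?_, fun β hβ => ?_⟩
    · rw [hdec, coeff_add, coeff_add, coeff_monomial, lt_coeff hcN hβ, lt_coeff hlow (by omega),
        if_neg (by rintro rfl; omega)]
      simp
    · rw [hdec, coeff_add, coeff_add, coeff_monomial, hcc β hβ, lt_coeff hlow hβ.ge, add_zero]
      by_cases h : β₀ = β
      · subst h
        rw [if_neg hβ₀, if_pos rfl, if_pos (Finset.mem_insert_self _ _), zero_add]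
      · rw [if_neg h, add_zero]
        simp [Ne.symm h]

theorem exists_reduce_factor (hg : ∀ p ∈ s, Lead w p.1 p.2) (hG : Groebner w s) {z : MvPolynomial σ A} {α : σ →₀ ℕ}
    (hz : Lead w z α) (hd : ∀ p ∈ s, Disjoint p.2.support α.support) {N : ℕ} {y : MvPolynomial σ A}
    (hy : Lt w y (N + 1)) {v : MvPolynomial σ A} (hv : v ∈ idl s) (hvN : Lt w (z * y - v) (N + wt w α)) :
    ∃ c ∈ idl s, Lt w c (N + 1) ∧ Lt w (y - c) N := by
  classical
  refine exists_reduce hg hy fun β hβ h0 => ?_
  have hlow := lt_mul hy (lead_lt hz)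
  have hzy : ∀ γ, N + wt w α ≤ wt w γ → coeff γ (z * y) = coeff γ (monomial α (coeff α z) * y) := by
    intro γ hγ
    rw [show z * y = monomial α (coeff α z) * y + y * (z - monomial α (coeff α z)) by ring, coeff_add,
      lt_coeff hlow hγ, add_zero]
  have hvc : ∀ γ, N + wt w α ≤ wt w γ → coeff γ v = coeff γ (z * y) := fun γ hγ => by
    have := lt_coeff hvN hγ
    rw [coeff_sub, sub_eq_zero] at this
    exact this.symm
  have hmon : Lt w (monomial α (coeff α z) * y) (N + wt w α + 1) := by
    intro γ hγ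
    obtain ⟨a, ha, b, hb, rfl⟩ := Finset.mem_add.mp (support_mul _ _ hγ)
    rw [Finset.mem_singleton.mp (support_monomial_subset ha)]
    have h2 := hy b hb
    rw [wt_add]; omega
  obtain ⟨p, hp, hle⟩ := hG (N + wt w α) v hv (lt_of_coeff fun γ hγ => by
      rw [hvc γ (by omega), hzy γ (by omega), lt_coeff hmon hγ]) (α + β) (by rw [wt_add, hβ, add_comm]) (by
      rw [hvc _ (by rw [wt_add, hβ, add_comm]), hzy _ (by rw [wt_add, hβ, add_comm]), coeff_monomial_mul]
      exact fun h => h0 (hz.isUnit.mul_right_eq_zero.mp h))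
  refine ⟨p, hp, fun i => ?_⟩
  by_cases hi : i ∈ p.2.support
  · have h1 := hle i
    have h2 : α i = 0 := by
      rw [← Finsupp.notMem_support_iff]
      exact Finset.disjoint_left.mp (hd p hp) hi
    rw [Finsupp.add_apply, h2, zero_add] at h1
    exact h1
  · rw [Finsupp.notMem_support_iff.mp hi]; exact Nat.zero_le _

theorem groebner : ∀ (s : List (MvPolynomial σ A × (σ →₀ ℕ))), Good w s → Groebner w s
  | [], _ => by
    intro N y hy _ β _ h0
    rw [idl, List.map_nil, Ideal.ofList_nil, Ideal.mem_bot] at hy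
    exact absurd (by simp [hy]) h0
  | ⟨f, α⟩ :: s, ⟨hlead, hdisj⟩ => by
    classical
    rw [List.map_cons, List.pairwise_cons] at hdisj
    have hs : Good w s := ⟨fun p hp => hlead p (List.mem_cons_of_mem _ hp), hdisj.2⟩
    have hG := groebner s hs
    have hf : Lead w f α := hlead (f, α) List.mem_cons_self
    have hd : ∀ p ∈ s, Disjoint p.2.support α.support := fun p hp =>
      (hdisj.1 p.2 (List.mem_map_of_mem (f := Prod.snd) hp)).symm
    intro N x hx hxN β hβ h0
    rw [idl, List.map_cons, Ideal.ofList_cons, Submodule.mem_sup] at hx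
    obtain ⟨e, he, y, hy, hey⟩ := hx
    obtain ⟨c, rfl⟩ := Ideal.mem_span_singleton'.mp he
    subst hey
    have key : ∀ (K : ℕ) (c y : MvPolynomial σ A), y ∈ idl s → Lt w c K → Lt w (c * f + y) (N + 1) →
        coeff β (c * f + y) ≠ 0 → ∃ p ∈ (f, α) :: s, p.2 ≤ β := by
      intro K
      induction K with
      | zero =>
        intro c y hy hc hxy h0
        have hc0 : c = 0 := by
          ext γ; rw [lt_coeff hc (Nat.zero_le _), coeff_zero]
        rw [hc0, zero_mul, zero_add] at hxy h0
        obtain ⟨p, hp, hle⟩ := hG N y hy hxy β hβ h0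
        exact ⟨p, List.mem_cons_of_mem _ hp, hle⟩
      | succ K ih =>
        intro c y hy hc hxy h0
        rcases Nat.lt_or_ge N (K + wt w α) with hK | hK
        · obtain ⟨c₁, hc₁, hc₁N, hlow⟩ := exists_reduce_factor hs.1 hG hf hd hc
            (v := -y) (Submodule.neg_mem _ hy) (by
              rw [sub_neg_eq_add, mul_comm f c]
              exact lt_mono hxy (by omega))
          have heq : c * f + y = (c - c₁) * f + (y + c₁ * f) := by ring
          rw [heq] at hxy h0
          exact ih (c - c₁) (y + c₁ * f) (Submodule.add_mem _ hy (Ideal.mul_mem_right _ _ hc₁)) hlow hxy h0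
        · have hlow := lt_mul hc (lead_lt hf)
          have hb : coeff β (c * f) = coeff β (monomial α (coeff α f) * c) := by
            rw [show c * f = monomial α (coeff α f) * c + c * (f - monomial α (coeff α f)) by ring, coeff_add,
              lt_coeff hlow (by omega), add_zero]
          by_cases hle : α ≤ β
          · exact ⟨(f, α), List.mem_cons_self, hle⟩
          have hcf : Lt w (c * f) (N + 1) := by
            intro γ hγ
            obtain ⟨a, ha, b, hb', rfl⟩ := Finset.mem_add.mp (support_mul _ _ hγ)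
            have h1 := hc a ha
            have h2 : wt w b ≤ wt w α := by
              by_contra h
              have hne : b ≠ α := by rintro rfl; omega
              exact mem_support_iff.mp hb' (hf.other b hne (by omega))
            rw [wt_add]; omega
          have hyN : Lt w y (N + 1) := by
            have := lt_sub hxy hcf
            rwa [add_sub_cancel_left] at this
          rw [coeff_add, hb, coeff_monomial_mul', if_neg hle, zero_add] at h0
          obtain ⟨p, hp, hle'⟩ := hG N y hy hyN β hβ h0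
          exact ⟨p, List.mem_cons_of_mem _ hp, hle'⟩
    exact key (c.support.sup (wt w) + 1) c y hy (fun γ hγ => Nat.lt_succ_of_le (Finset.le_sup hγ)) hxN h0

/-- A polynomial whose leading monomial is prime to the others is regular modulo the sequence. -/
theorem mem_of_mul_mem (hs : Good w s) {z : MvPolynomial σ A} {α : σ →₀ ℕ} (hz : Lead w z α)
    (hd : ∀ p ∈ s, Disjoint p.2.support α.support) {y : MvPolynomial σ A} (hy : z * y ∈ idl s) : y ∈ idl s := by
  classical
  have key : ∀ (K : ℕ) (y : MvPolynomial σ A), Lt w y K → z * y ∈ idl s → y ∈ idl s := by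
    intro K
    induction K with
    | zero =>
      intro y hK _
      have : y = 0 := by ext γ; rw [lt_coeff hK (Nat.zero_le _), coeff_zero]
      exact this ▸ zero_mem _
    | succ K ih =>
      intro y hK hy
      obtain ⟨c, hc, -, hlow⟩ := exists_reduce_factor hs.1 (groebner s hs) hz hd hK hy
        (by rw [sub_self]; exact fun β hβ => by simp at hβ)
      have := ih _ hlow (by rw [mul_sub]; exact Submodule.sub_mem _ hy (Ideal.mul_mem_left _ _ hc))
      exact (Submodule.sub_mem_iff_left _ hc).mp this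
  exact key (y.support.sup (wt w) + 1) y (fun γ hγ => Nat.lt_succ_of_le (Finset.le_sup hγ)) hy

end Groth.Agent.L3Lib
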