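import Mathlib
import Groth.Prelude.Def_W4c1bouilletffgsL3
import Groth.Agent.L3Lib.Lead
import Groth.Agent.WiebeLib.Basic

/-!
The two components of the scheme of based three dimensional Lie algebras.
-/

set_option autoImplicit false
set_option linter.style.haveILetI false
set_option linter.unusedSectionVars false
set_option linter.unusedSimpArgs false

universe u

open MvPolynomial Lie3Mod

namespace Groth.Agent.L3Lib

section helpers

variable {σ : Type*} {A : Type u} [CommRing A] {w : σ → ℕ}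

theorem lead_add {α : σ →₀ ℕ} {u : A} (hu : IsUnit u) {r : MvPolynomial σ A} (hr : Lt w r (wt w α)) :
    Lead w (monomial α u + r) α := by
  classical
  refine ⟨?_, fun β hβ hw => ?_⟩
  · rwa [coeff_add, coeff_monomial, if_pos rfl, lt_coeff hr le_rfl, add_zero]
  · rw [coeff_add, coeff_monomial, if_neg (Ne.symm hβ), lt_coeff hr hw, add_zero]

theorem lt_add {p q : MvPolynomial σ A} {N : ℕ} (hp : Lt w p N) (hq : Lt w q N) : Lt w (p + q) N :=
  lt_of_coeff fun β hβ => by rw [coeff_add, lt_coeff hp hβ, lt_coeff hq hβ, add_zero]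

theorem lt_neg {p : MvPolynomial σ A} {N : ℕ} (hp : Lt w p N) : Lt w (-p) N :=
  lt_of_coeff fun β hβ => by rw [coeff_neg, lt_coeff hp hβ, neg_zero]

theorem lt_X {i : σ} {N : ℕ} (h : w i < N) : Lt w (X i : MvPolynomial σ A) N := fun β hβ => by
  rw [Finset.mem_singleton.mp (support_monomial_subset hβ), wt_single, one_mul]; exact h

theorem lt_X_mul {i : σ} {p : MvPolynomial σ A} {N M : ℕ} (hp : Lt w p M) (h : w i + M ≤ N) :
    Lt w (X i * p) N :=
  lt_mono (lt_mul (lt_X (Nat.lt_succ_self _)) hp) h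

theorem disjoint_of_forall {α β : σ →₀ ℕ} (h : ∀ i, α i = 0 ∨ β i = 0) : Disjoint α.support β.support :=
  Finset.disjoint_left.mpr fun i ha hb =>
    (h i).elim (Finsupp.mem_support_iff.mp ha) (Finsupp.mem_support_iff.mp hb)

end helpers

theorem isExact_nil {R : Type u} [CommRing R] (f : Fin 0 → R) : WiebeLib.IsExact f := fun k x _ => by
  haveI := WiebeLib.subsingleton_ko R (Nat.zero_lt_succ k)
  exact ⟨0, Subsingleton.elim _ _⟩

theorem isExact_cons {R : Type u} [CommRing R] {n : ℕ} {f : Fin (n + 1) → R}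
    (h : WiebeLib.IsExact fun i : Fin n => f i.succ)
    (hreg : ∀ y, f 0 * y ∈ Ideal.span (Set.range fun i : Fin n => f i.succ) →
      y ∈ Ideal.span (Set.range fun i : Fin n => f i.succ)) : WiebeLib.IsExact f := by
  open WiebeLib in
  intro k x hx
  set f' := fun i : Fin n => f i.succ with hf'
  set a := fstL n k x with ha
  set b := sndL n k x with hb
  have main : ∀ b' : Ko R n (k + 1), d n f' k b' = b → d n f' k (a + f 0 • b') = 0 →
      ∃ y, d (n + 1) f (k + 1) y = x := by
    intro b' hb' hc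
    obtain ⟨a', ha'⟩ := h k _ hc
    refine ⟨pairL (n := n) (k := k + 1) (LinearMap.toSpanSingleton R _ a') (LinearMap.toSpanSingleton R _ (-b')) 1, ?_⟩
    apply ko_ext
    · show d n f' (k + 1) ((1 : R) • a') + f 0 • ((1 : R) • -b') = a
      rw [one_smul, one_smul, ha', smul_neg, add_neg_cancel_right]
    · show -(d n f' k ((1 : R) • -b')) = b
      rw [one_smul, map_neg, neg_neg, hb']
  cases k with
  | zero =>
    have h0 : d n f' 0 a + f 0 • b = 0 := hx
    have hbr : b ∈ LinearMap.range (d n f' 0) := by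
      rw [mem_range_d_zero]
      refine hreg _ ?_
      rw [← smul_eq_mul, ← map_smul, ← mem_range_d_zero, eq_neg_of_add_eq_zero_right h0]
      exact neg_mem ⟨a, rfl⟩
    obtain ⟨b', hb'⟩ := hbr
    exact main b' hb' (by rw [map_add, map_smul, hb']; exact h0)
  | succ k =>
    have h1 := congrArg (fstL n k) hx
    have h2 := congrArg (sndL n k) hx
    change d n f' (k + 1) a + f 0 • b = 0 at h1
    change -(d n f' k b) = 0 at h2
    obtain ⟨b', hb'⟩ := h k b (neg_eq_zero.mp h2)
    exact main b' hb' (by rw [map_add, map_smul, hb']; exact h1)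

variable (A : Type u) [CommRing A]

/-- Weights isolating the monomials `fg`, `ae`, `cd` and `bh`. -/
def w₁ : Fin 9 → ℕ := ![8, 3, 100, 4, 0, 4, 100, 3, 1]

/-- Weights isolating `a`, `b`, `d` and `ceg`. -/
def w₂ : Fin 9 → ℕ := ![2, 2, 10, 2, 10, 1, 10, 1, 1]

local notation "e[" i "]" => (Finsupp.single (i : Fin 9) 1 : Fin 9 →₀ ℕ)

/-- The minor used to split the second component. -/
noncomputable def q : D A := vh * vb + vi * ve

theorem lead_Q1 : Lead w₁ (Q1 A) (e[5] + e[6]) := by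
  have h : Q1 A = monomial (e[5] + e[6]) (-1 : A) + (va * vh + (vd * vi + -(vb * vg))) := by
    rw [map_neg, show monomial (e[5] + e[6]) (1 : A) = X 5 * X 6 by simp [X, monomial_mul], Q1]
    ring
  rw [h]
  refine lead_add isUnit_one.neg (lt_add ?_ (lt_add ?_ (lt_neg ?_))) <;>
    refine lt_X_mul (lt_X (Nat.lt_succ_self _)) ?_ <;> simp [wt_add, wt_single, w₁]

theorem lead_Q2 : Lead w₁ (Q2 A) (e[0] + e[4]) := by
  have h : Q2 A = monomial (e[0] + e[4]) (-1 : A) + (vi * ve + (vb * vd + -(vf * vh))) := by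
    rw [map_neg, show monomial (e[0] + e[4]) (1 : A) = X 0 * X 4 by simp [X, monomial_mul], Q2]
    ring
  rw [h]
  refine lead_add isUnit_one.neg (lt_add ?_ (lt_add ?_ (lt_neg ?_))) <;>
    refine lt_X_mul (lt_X (Nat.lt_succ_self _)) ?_ <;> simp [wt_add, wt_single, w₁]

theorem lead_Q3 : Lead w₁ (Q3 A) (e[3] + e[2]) := by
  have h : Q3 A = monomial (e[3] + e[2]) (1 : A) + (vh * vc + (-(va * vf) + -(vb * vi))) := by
    rw [show monomial (e[3] + e[2]) (1 : A) = X 3 * X 2 by simp [X, monomial_mul], Q3]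
    ring
  rw [h]
  refine lead_add isUnit_one (lt_add ?_ (lt_add (lt_neg ?_) (lt_neg ?_))) <;>
    refine lt_X_mul (lt_X (Nat.lt_succ_self _)) ?_ <;> simp [wt_add, wt_single, w₁]

theorem lead_q : Lead w₁ (q A) (e[7] + e[1]) := by
  have h : q A = monomial (e[7] + e[1]) (1 : A) + vi * ve := by
    rw [show monomial (e[7] + e[1]) (1 : A) = X 7 * X 1 by simp [X, monomial_mul], q]
  rw [h]
  refine lead_add isUnit_one ?_
  refine lt_X_mul (lt_X (Nat.lt_succ_self _)) ?_
  simp [wt_add, wt_single, w₁]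

theorem lead_L1 : Lead w₂ (L1 A) e[0] := by
  have h : L1 A = monomial e[0] (1 : A) + -vi := by rw [L1, sub_eq_add_neg]; rfl
  rw [h]
  exact lead_add isUnit_one (lt_neg (lt_X (by simp [wt_single, w₂])))

theorem lead_L2 : Lead w₂ (L2 A) e[1] := by
  have h : L2 A = monomial e[1] (1 : A) + vf := by rw [L2]; rfl
  rw [h]
  exact lead_add isUnit_one (lt_X (by simp [wt_single, w₂]))

theorem lead_L3 : Lead w₂ (L3 A) e[3] := by
  have h : L3 A = monomial e[3] (1 : A) + vh := by rw [L3]; rfl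
  rw [h]
  exact lead_add isUnit_one (lt_X (by simp [wt_single, w₂]))

theorem lead_detM : Lead w₂ (detM A) (e[6] + e[4] + e[2]) := by
  have h : detM A = monomial (e[6] + e[4] + e[2]) (-1 : A) +
      (-(vc * (vh * vh)) + (vg * (vb * vf) + (ve * (vi * vi) + (vh * (vb * vi) + -(vi * (vh * vf)))))) := by
    rw [map_neg, show monomial (e[6] + e[4] + e[2]) (1 : A) = X 6 * X 4 * X 2 by simp [X, monomial_mul], detM]
    ring
  rw [h]
  refine lead_add isUnit_one.neg (lt_add (lt_neg ?_) (lt_add ?_ (lt_add ?_ (lt_add ?_ (lt_neg ?_))))) <;>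
    refine lt_X_mul (lt_X_mul (lt_X (Nat.lt_succ_self _)) le_rfl) ?_ <;> simp [wt_add, wt_single, w₂]

theorem disjoint₁ :
    Disjoint (e[5] + e[6]).support (e[0] + e[4]).support ∧ Disjoint (e[5] + e[6]).support (e[3] + e[2]).support ∧
    Disjoint (e[0] + e[4]).support (e[3] + e[2]).support ∧ Disjoint (e[5] + e[6]).support (e[7] + e[1]).support ∧
    Disjoint (e[0] + e[4]).support (e[7] + e[1]).support ∧ Disjoint (e[3] + e[2]).support (e[7] + e[1]).support := by
  refine ⟨?_, ?_, ?_, ?_, ?_, ?_⟩ <;> refine disjoint_of_forall fun i => ?_ <;>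
    fin_cases i <;> simp [Finsupp.single_apply]

theorem disjoint₂ :
    Disjoint e[0].support e[1].support ∧ Disjoint e[0].support e[3].support ∧ Disjoint e[1].support e[3].support ∧
    Disjoint e[0].support (e[6] + e[4] + e[2]).support ∧ Disjoint e[1].support (e[6] + e[4] + e[2]).support ∧
    Disjoint e[3].support (e[6] + e[4] + e[2]).support := by
  refine ⟨?_, ?_, ?_, ?_, ?_, ?_⟩ <;> refine disjoint_of_forall fun i => ?_ <;>
    fin_cases i <;> simp [Finsupp.single_apply]

/-- The quadrics with their leading exponents. -/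
noncomputable def sQ : List (D A × (Fin 9 →₀ ℕ)) :=
  [(Q1 A, e[5] + e[6]), (Q2 A, e[0] + e[4]), (Q3 A, e[3] + e[2])]

/-- The linear forms with their leading exponents. -/
noncomputable def sL : List (D A × (Fin 9 →₀ ℕ)) := [(L1 A, e[0]), (L2 A, e[1]), (L3 A, e[3])]

theorem good_sQ : Good w₁ (sQ A) :=
  ⟨by simp [sQ, lead_Q1, lead_Q2, lead_Q3], by
    simp [sQ, List.pairwise_cons, disjoint₁.1, disjoint₁.2.1, disjoint₁.2.2.1]⟩

theorem good_sL : Good w₂ (sL A) :=
  ⟨by simp [sL, lead_L1, lead_L2, lead_L3], by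
    simp [sL, List.pairwise_cons, disjoint₂.1, disjoint₂.2.1, disjoint₂.2.2.1]⟩

theorem idl_sQ : idl (sQ A) = idI A := by
  simp [idl, sQ, idI, Ideal.ofList_cons, Ideal.span_insert]

theorem idl_sL : idl (sL A) = idL A := by
  simp [idl, sL, idL, Ideal.ofList_cons, Ideal.span_insert]

theorem mem_idI_of_q_mul {y : D A} (h : q A * y ∈ idI A) : y ∈ idI A := by
  rw [← idl_sQ] at h ⊢
  refine mem_of_mul_mem (good_sQ A) (lead_q A) ?_ h
  simp [sQ, disjoint₁.2.2.2.1, disjoint₁.2.2.2.2.1, disjoint₁.2.2.2.2.2]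

theorem mem_idL_of_detM_mul {y : D A} (h : detM A * y ∈ idL A) : y ∈ idL A := by
  rw [← idl_sL] at h ⊢
  refine mem_of_mul_mem (good_sL A) (lead_detM A) ?_ h
  simp [sL, disjoint₂.2.2.2.1, disjoint₂.2.2.2.2.1, disjoint₂.2.2.2.2.2]

theorem isExact_Q : WiebeLib.IsExact ![Q1 A, Q2 A, Q3 A] := by
  refine isExact_cons (isExact_cons (isExact_cons (isExact_nil _) ?_) ?_) ?_
  · intro y hy
    have h : y ∈ idl (σ := Fin 9) (A := A) [] := by
      refine mem_of_mul_mem (w := w₁) ⟨by simp, by simp⟩ (lead_Q3 A) (by simp) ?_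
      simpa [idl] using hy
    simpa [idl] using h
  · intro y hy
    have hr : Set.range (fun i : Fin 1 => (![Q1 A, Q2 A, Q3 A]) i.succ.succ) = {Q3 A} := by
      ext t; simp [Set.range, Fin.exists_fin_one, eq_comm]
    simp only [hr] at hy ⊢
    have h : y ∈ idl [(Q3 A, e[3] + e[2])] := by
      refine mem_of_mul_mem (w := w₁) ⟨by simp [lead_Q3], by simp⟩ (lead_Q2 A)
        (by simp [disjoint₁.2.2.1.symm]) ?_
      simpa [idl] using hy
    simpa [idl] using h
  · intro y hy
    have hr : Set.range (fun i : Fin 2 => (![Q1 A, Q2 A, Q3 A]) i.succ) = {Q2 A, Q3 A} := by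
      ext t; simp [Set.range, Fin.exists_fin_two, eq_comm]
    simp only [hr] at hy ⊢
    have h : y ∈ idl [(Q2 A, e[0] + e[4]), (Q3 A, e[3] + e[2])] := by
      refine mem_of_mul_mem (w := w₁) ⟨by simp [lead_Q2, lead_Q3], by simp [disjoint₁.2.2.1]⟩ (lead_Q1 A)
        (by simp [disjoint₁.1.symm, disjoint₁.2.1.symm]) ?_
      simpa [idl, Ideal.ofList_cons, Ideal.span_insert] using hy
    simpa [idl, Ideal.ofList_cons, Ideal.span_insert] using h

/-- The matrix `M`. -/
noncomputable def mat : Matrix (Fin 3) (Fin 3) (D A) := !![vh, -vg, vi; -ve, -vh, vb; -vf, -vi, vc]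

theorem mat_mul (i : Fin 3) : ![Q1 A, Q2 A, Q3 A] i = ∑ j, mat A i j * ![L1 A, L2 A, L3 A] j := by
  fin_cases i <;> simp [mat, Fin.sum_univ_three, Q1, Q2, Q3, L1, L2, L3] <;> ring

theorem det_mat : (mat A).det = detM A := by
  rw [Matrix.det_fin_three]
  simp [mat, detM]
  ring

theorem range_Q : Ideal.span (Set.range ![Q1 A, Q2 A, Q3 A]) = idI A := by
  rw [idI]; congr 1; ext t; simp [Fin.exists_fin_succ, eq_comm]; tauto

theorem idI_le_idL : idI A ≤ idL A := by
  rw [← range_Q, Ideal.span_le]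
  rintro _ ⟨i, rfl⟩
  rw [SetLike.mem_coe, mat_mul]
  refine sum_mem fun j _ => Ideal.mul_mem_left _ _ (Ideal.subset_span ?_)
  fin_cases j <;> simp

theorem idJ_eq : idJ A = idI A ⊔ Ideal.span {detM A} := by
  rw [idJ, idI]
  simp only [Ideal.span_insert, sup_assoc]

theorem idI_le_idJ : idI A ≤ idJ A := by rw [idJ_eq]; exact le_sup_left

theorem detM_mul_mem {l : D A} (hl : l ∈ idL A) : detM A * l ∈ idI A := by
  have h : idL A ≤ (idI A).colon {detM A} := by
    rw [idL, Ideal.span_le]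
    intro l hl
    rw [SetLike.mem_coe, Submodule.mem_colon_singleton, smul_eq_mul, mul_comm, ← range_Q, ← det_mat]
    rcases hl with rfl | rfl | rfl
    · exact WiebeLib.det_mul_mem (C := mat A) (mat_mul A) 0
    · exact WiebeLib.det_mul_mem (C := mat A) (mat_mul A) 1
    · exact WiebeLib.det_mul_mem (C := mat A) (mat_mul A) 2
  have := Submodule.mem_colon_singleton.mp (h hl)
  rwa [smul_eq_mul, mul_comm] at this

theorem mul_mem_idI {x l : D A} (hx : x ∈ idJ A) (hl : l ∈ idL A) : x * l ∈ idI A := by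
  rw [idJ_eq, Submodule.mem_sup] at hx
  obtain ⟨y, hy, z, hz, rfl⟩ := hx
  obtain ⟨r, rfl⟩ := Ideal.mem_span_singleton'.mp hz
  rw [add_mul, mul_assoc]
  exact add_mem (Ideal.mul_mem_right _ _ hy) (Ideal.mul_mem_left _ _ (detM_mul_mem A hl))

theorem mem_idJ_of_forall {x : D A} (h : ∀ l ∈ idL A, x * l ∈ idI A) : x ∈ idJ A := by
  rw [idJ_eq, ← range_Q, ← det_mat]
  refine WiebeLib.mem_of_forall_mul_mem (C := mat A) (isExact_Q A) (mat_mul A) fun j => ?_
  rw [range_Q]
  refine h _ (Ideal.subset_span ?_)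
  fin_cases j <;> simp

theorem colon_idL : (idI A).colon (idL A : Set (D A)) = idJ A := by
  ext x
  rw [Submodule.mem_colon]
  exact ⟨fun h => mem_idJ_of_forall A fun l hl => h l hl, fun h l hl => mul_mem_idI A h hl⟩

theorem colon_idJ : (idI A).colon (idJ A : Set (D A)) = idL A := by
  ext x
  rw [Submodule.mem_colon]
  refine ⟨fun h => mem_idL_of_detM_mul A (idI_le_idL A ?_), fun h l hl => ?_⟩
  · rw [mul_comm]
    exact h _ (Ideal.subset_span (by simp))
  · rw [smul_eq_mul, mul_comm]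
    exact mul_mem_idI A hl h

theorem idI_eq_inf : idI A = idJ A ⊓ idL A := by
  refine le_antisymm (le_inf (idI_le_idJ A) (idI_le_idL A)) fun x hx => ?_
  obtain ⟨hJ, hL⟩ := hx
  rw [SetLike.mem_coe, idJ_eq, Submodule.mem_sup] at hJ
  obtain ⟨y, hy, z, hz, rfl⟩ := hJ
  obtain ⟨r, rfl⟩ := Ideal.mem_span_singleton'.mp hz
  refine add_mem hy ?_
  rw [mul_comm]
  refine detM_mul_mem A (mem_idL_of_detM_mul A ?_)
  rw [mul_comm]
  simpa using sub_mem hL (idI_le_idL A hy)

/-- Projection onto the linear component. -/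
noncomputable def projL : D A →ₐ[A] D A := aeval ![vi, -vf, vc, -vh, ve, vf, vg, vh, vi]

theorem ker_projL : RingHom.ker (projL A) = idL A := by
  apply le_antisymm
  · intro x hx
    have h : (Ideal.Quotient.mkₐ A (idL A)).comp (projL A) = Ideal.Quotient.mkₐ A (idL A) := by
      refine algHom_ext fun i => ?_
      rw [AlgHom.comp_apply, projL, aeval_X, Ideal.Quotient.mkₐ_eq_mk, Ideal.Quotient.eq]
      fin_cases i <;> simp only [Fin.isValue, Fin.zero_eta, Fin.mk_one, Fin.reduceFinMk,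
        Matrix.cons_val_zero, Matrix.cons_val_one, Matrix.cons_val, sub_self, zero_mem]
      · rw [← Ideal.neg_mem_iff, neg_sub]; exact Ideal.subset_span (by simp [L1])
      · rw [show -vf - X 1 = -(L2 A) by rw [L2]; ring, Ideal.neg_mem_iff]; exact Ideal.subset_span (by simp)
      · rw [show -vh - X 3 = -(L3 A) by rw [L3]; ring, Ideal.neg_mem_iff]; exact Ideal.subset_span (by simp)
    have h2 := DFunLike.congr_fun h x
    rw [AlgHom.comp_apply, RingHom.mem_ker.mp hx, map_zero] at h2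
    exact Ideal.Quotient.eq_zero_iff_mem.mp h2.symm
  · rw [idL, Ideal.span_le]
    rintro _ (rfl | rfl | rfl) <;> simp [RingHom.mem_ker, projL, L1, L2, L3]

theorem idL_isPrime [IsDomain A] : (idL A).IsPrime := ker_projL A ▸ RingHom.ker_isPrime _

/-- The coordinates `x, z, b, c, e, s` of the second component. -/
abbrev E : Type u := MvPolynomial (Fin 6) A

/-- The parametrisation of the second component. -/
noncomputable def psi : D A →ₐ[A] E A :=
  let f : E A := X 5 - X 2
  let h : E A := -(X 4 * X 0) + X 2 * X 1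
  let i : E A := -(f * X 0) + X 3 * X 1
  aeval ![X 0 * X 5 + i, X 2, X 3, X 1 * X 5 - h, X 4, f, h * X 0 + i * X 1, h, i]

theorem idJ_le_ker : idJ A ≤ RingHom.ker (psi A) := by
  rw [idJ, Ideal.span_le]
  rintro _ (rfl | rfl | rfl | rfl) <;> simp [RingHom.mem_ker, psi, Q1, Q2, Q3, detM] <;> ring

theorem mem_idJ_of_q_mul {y : D A} (h : q A * y ∈ idJ A) : y ∈ idJ A :=
  mem_idJ_of_forall A fun l hl => mem_idI_of_q_mul A (by rw [← mul_assoc]; exact mul_mem_idI A h hl)

theorem ker_psi : RingHom.ker (psi A) = idJ A := by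
  refine le_antisymm (fun y hy => ?_) (idJ_le_ker A)
  let R := Localization.Away (Ideal.Quotient.mk (idJ A) (q A))
  let ι : D A →ₐ[A] R := (IsScalarTower.toAlgHom A (D A ⧸ idJ A) R).comp (Ideal.Quotient.mkₐ A (idJ A))
  obtain ⟨v, hv⟩ : ∃ v, ι (q A) * v = 1 :=
    isUnit_iff_exists_inv.mp (IsLocalization.Away.algebraMap_isUnit (Ideal.Quotient.mk (idJ A) (q A)))
  have hJ : ∀ t ∈ idJ A, ι t = 0 := fun t ht => by
    show algebraMap (D A ⧸ idJ A) R (Ideal.Quotient.mk (idJ A) t) = 0
    rw [Ideal.Quotient.eq_zero_iff_mem.mpr ht, map_zero]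
  have h1 := hJ (Q1 A) (Ideal.subset_span (by simp))
  have h2 := hJ (Q2 A) (Ideal.subset_span (by simp))
  have h4 := hJ (detM A) (Ideal.subset_span (by simp))
  simp only [Q1, Q2, detM, q, map_add, map_sub, map_mul, map_neg, map_pow] at h1 h2 h4 hv
  let φ : E A →ₐ[A] R :=
    aeval ![ι (vg * vb - vh * vi) * v, ι (vh * vh + ve * vg) * v, ι vb, ι vc, ι ve, ι (vb + vf)]
  have key : φ.comp (psi A) = ι := by
    refine algHom_ext fun i => ?_
    fin_cases i <;>
      simp [φ, psi, map_add, map_sub, map_mul, map_neg] <;>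
      first
        | ring1
        | linear_combination (-v * ι vb) * h1 + (v * ι vi) * h2 - v * h4 + ι va * hv
        | linear_combination (-v * ι vh) * h2 - (v * ι ve) * h1 + ι vd * hv
        | linear_combination ι vh * hv
        | linear_combination -v * h4 + ι vi * hv
        | linear_combination ι vg * hv +
            ((ι vh * ι vh + ι ve * ι vg) * v) * (-v * h4 + ι vi * hv) +
            ((ι vg * ι vb - ι vh * ι vi) * v) * (ι vh * hv)
  have hy0 : ι y = 0 := by rw [← key, AlgHom.comp_apply, RingHom.mem_ker.mp hy, map_zero]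
  obtain ⟨⟨_, n, rfl⟩, hn⟩ := (IsLocalization.map_eq_zero_iff (.powers (Ideal.Quotient.mk (idJ A) (q A))) R _).mp hy0
  replace hn : Ideal.Quotient.mk (idJ A) (q A) ^ n * Ideal.Quotient.mk (idJ A) y = 0 := hn
  simp only [← map_pow, ← map_mul, Ideal.Quotient.eq_zero_iff_mem] at hn
  clear hy0
  induction n generalizing y with
  | zero => rwa [pow_zero, one_mul] at hn
  | succ n ih =>
    have hqy : q A * y ∈ idJ A := ih (q A * y) (by rw [RingHom.mem_ker, map_mul, RingHom.mem_ker.mp hy, mul_zero])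
      (by rwa [← mul_assoc, ← pow_succ])
    exact mem_idJ_of_q_mul A hqy

theorem idJ_isPrime [IsDomain A] : (idJ A).IsPrime := ker_psi A ▸ RingHom.ker_isPrime _

theorem L2_notMem_idJ [Nontrivial A] : L2 A ∉ idJ A := by
  rw [← ker_psi, RingHom.mem_ker]
  simpa [L2, psi] using (X_ne_zero (5 : Fin 6) : (X 5 : E A) ≠ 0)

theorem idJ_mem_minimalPrimes [IsDomain A] : idJ A ∈ (idI A).minimalPrimes := by
  refine ⟨⟨idJ_isPrime A, idI_le_idJ A⟩, fun P ⟨hP, hIP⟩ hPJ => ?_⟩
  have hdet : detM A ∈ P := by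
    refine (hP.mem_or_mem (hIP (detM_mul_mem A (l := L2 A) (Ideal.subset_span (by simp))))).resolve_right ?_
    exact fun h => L2_notMem_idJ A (hPJ h)
  rw [idJ_eq]
  exact sup_le hIP ((Ideal.span_singleton_le_iff_mem P).mpr hdet)

theorem idL_mem_minimalPrimes [IsDomain A] : idL A ∈ (idI A).minimalPrimes := by
  refine ⟨⟨idL_isPrime A, idI_le_idL A⟩, fun P ⟨hP, hIP⟩ hPL l hl => ?_⟩
  refine (hP.mem_or_mem (hIP (detM_mul_mem A hl))).resolve_left fun h => ?_
  refine (idL_isPrime A).ne_top ((Ideal.eq_top_iff_one _).mpr (mem_idL_of_detM_mul A ?_))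
  rw [mul_one]
  exact hPL h

theorem flat_quotient_idJ : Module.Flat ℤ (D ℤ ⧸ idJ ℤ) := by
  rw [IsDedekindDomain.flat_iff_torsion_eq_bot, Submodule.eq_bot_iff]
  rintro x ⟨⟨n, hn⟩, hx⟩
  obtain ⟨x, rfl⟩ := Ideal.Quotient.mk_surjective x
  rw [Ideal.Quotient.eq_zero_iff_mem, ← ker_psi, RingHom.mem_ker]
  have h : n • psi ℤ x = 0 := by
    rw [← map_smul, ← RingHom.mem_ker, ker_psi]
    exact (Submodule.Quotient.mk_eq_zero _).mp hx
  exact (smul_eq_zero.mp h).resolve_left (nonZeroDivisors.ne_zero hn)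

theorem flat_quotient_idI : Module.Flat ℤ (D ℤ ⧸ idI ℤ) := by
  rw [IsDedekindDomain.flat_iff_torsion_eq_bot, Submodule.eq_bot_iff]
  rintro x ⟨⟨n, hn⟩, hx⟩
  obtain ⟨x, rfl⟩ := Ideal.Quotient.mk_surjective x
  rw [Ideal.Quotient.eq_zero_iff_mem, idI_eq_inf]
  have hx' : n • x ∈ idI ℤ := (Submodule.Quotient.mk_eq_zero _).mp hx
  rw [idI_eq_inf] at hx'
  refine ⟨?_, ?_⟩
  · have h : n • psi ℤ x = 0 := by
      rw [← map_smul, ← RingHom.mem_ker, ker_psi]
      exact hx'.1
    rw [SetLike.mem_coe, ← ker_psi, RingHom.mem_ker]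
    exact (smul_eq_zero.mp h).resolve_left (nonZeroDivisors.ne_zero hn)
  · have h : n • projL ℤ x = 0 := by
      rw [← map_smul, ← RingHom.mem_ker, ker_projL]
      exact hx'.2
    rw [SetLike.mem_coe, ← ker_projL, RingHom.mem_ker]
    exact (smul_eq_zero.mp h).resolve_left (nonZeroDivisors.ne_zero hn)

theorem isRadical_idI : (idI ℤ).IsRadical := by
  rw [idI_eq_inf]
  exact (idJ_isPrime ℤ).isRadical.inf (idL_isPrime ℤ).isRadical

theorem isRegular_seqs [Nontrivial A] :
    RingTheory.Sequence.IsRegular (D A) [L1 A, L2 A, L3 A] ∧ RingTheory.Sequence.IsRegular (D A) [Q1 A, Q2 A, Q3 A] := by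
  have hreg : ∀ (w : Fin 9 → ℕ) (s : List (D A × (Fin 9 →₀ ℕ))), Good w s →
      RingTheory.Sequence.IsWeaklyRegular (D A) (s.map Prod.fst) := by
    intro w s ⟨hl, hd⟩
    rw [RingTheory.Sequence.isWeaklyRegular_iff]
    intro i hi
    have hi' : i < s.length := by simpa using hi
    refine IsSMulRegular.of_right_eq_zero_of_smul fun x hx => ?_
    obtain ⟨x, rfl⟩ := Submodule.mkQ_surjective _ x
    have he : (Ideal.ofList ((s.map Prod.fst).take i) • ⊤ : Submodule (D A) (D A)) = idl (s.take i) := by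
      rw [idl, List.map_take, smul_eq_mul, Ideal.mul_top]
    rw [Submodule.mkQ_apply, ← Submodule.Quotient.mk_smul, Submodule.Quotient.mk_eq_zero, he] at hx
    rw [Submodule.mkQ_apply, Submodule.Quotient.mk_eq_zero, he]
    simp only [List.getElem_map, smul_eq_mul] at hx
    refine mem_of_mul_mem (w := w) ⟨fun p hp => hl p (List.mem_of_mem_take hp), ?_⟩
      (hl _ (List.getElem_mem hi')) (fun p hp => ?_) hx
    · rw [List.map_take]; exact hd.sublist (List.take_sublist _ _)
    · obtain ⟨j, hj, rfl⟩ := List.getElem_of_mem hp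
      rw [List.getElem_take]
      have hji : j < i := by rw [List.length_take] at hj; omega
      have := List.pairwise_iff_getElem.mp hd j i (by simp; omega) (by simpa using hi') hji
      simpa using this
  have hne : ∀ l : List (D A), (∀ r ∈ l, constantCoeff r = 0) →
      (⊤ : Submodule (D A) (D A)) ≠ Ideal.ofList l • ⊤ := by
    intro l hl h
    have h1 : (1 : D A) ∈ Ideal.ofList l := by
      rw [smul_eq_mul, Ideal.mul_top] at h
      exact h.le Submodule.mem_top
    have h2 : Ideal.ofList l ≤ RingHom.ker (constantCoeff : D A →+* A) := Ideal.span_le.mpr fun r hr => hl r hr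
    simpa using h2 h1
  exact ⟨⟨hreg w₂ (sL A) (good_sL A), hne _ (by simp [L1, L2, L3])⟩,
    ⟨hreg w₁ (sQ A) (good_sQ A), hne _ (by simp [Q1, Q2, Q3])⟩⟩

end Groth.Agent.L3Lib
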