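import Groth.Agent.L3Lib.Main
import Groth.Agent.SmoothDim.Basic

/-!
A smooth rational point of the second component.
-/

set_option autoImplicit false
set_option linter.style.haveILetI false
set_option linter.unusedSectionVars false
set_option linter.unusedSimpArgs false

universe u

open MvPolynomial Lie3Mod

namespace Groth.Agent.L3Lib

/-- A ring map which is an isomorphism away from `u` induces isomorphisms of local rings. -/
theorem isLocalization_atPrime {R S : Type u} [CommRing R] [CommRing S] [Algebra R S]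
    (hinj : Function.Injective (algebraMap R S)) {u : R}
    (hu : ∀ y : S, ∃ (n : ℕ) (r : R), algebraMap R S u ^ n * y = algebraMap R S r)
    (Q : Ideal S) [Q.IsPrime] (huQ : algebraMap R S u ∉ Q) :
    IsLocalization.AtPrime (Localization.AtPrime Q) (Q.comap (algebraMap R S)) := by
  refine (isLocalization_iff _ _).mpr ⟨fun ⟨y, hy⟩ => ?_, fun z => ?_, fun {x y} h => ?_⟩
  · rw [IsScalarTower.algebraMap_apply R S (Localization.AtPrime Q)]
    exact IsLocalization.map_units (Localization.AtPrime Q) (⟨algebraMap R S y, hy⟩ : Q.primeCompl)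
  · obtain ⟨⟨y, t, ht⟩, hz⟩ := IsLocalization.surj Q.primeCompl z
    obtain ⟨n, a, ha⟩ := hu y
    obtain ⟨m, b, hb⟩ := hu t
    have hden : b * u ^ n ∈ (Q.comap (algebraMap R S)).primeCompl := by
      show algebraMap R S (b * u ^ n) ∉ Q
      rw [map_mul, map_pow, ← hb]
      exact Ideal.IsPrime.mul_notMem ‹_› (Ideal.IsPrime.mul_notMem ‹_›
        (fun h => huQ (Ideal.IsPrime.mem_of_pow_mem ‹_› _ h)) ht)
        (fun h => huQ (Ideal.IsPrime.mem_of_pow_mem ‹_› _ h))
    refine ⟨(a * u ^ m, ⟨_, hden⟩), ?_⟩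
    simp only [IsScalarTower.algebraMap_apply R S (Localization.AtPrime Q), map_mul, map_pow, ← ha, ← hb]
    linear_combination (algebraMap S (Localization.AtPrime Q) (algebraMap R S u)) ^ (n + m) * hz
  · rw [IsScalarTower.algebraMap_apply R S (Localization.AtPrime Q),
      IsScalarTower.algebraMap_apply R S (Localization.AtPrime Q)] at h
    obtain ⟨⟨t, ht⟩, hxy⟩ := (IsLocalization.eq_iff_exists Q.primeCompl (Localization.AtPrime Q)).mp h
    obtain ⟨m, b, hb⟩ := hu t
    have hbm : b ∈ (Q.comap (algebraMap R S)).primeCompl := by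
      show algebraMap R S b ∉ Q
      rw [← hb]
      exact Ideal.IsPrime.mul_notMem ‹_› (fun h => huQ (Ideal.IsPrime.mem_of_pow_mem ‹_› _ h)) ht
    refine ⟨⟨b, hbm⟩, hinj ?_⟩
    simp only [map_mul, ← hb]
    linear_combination (algebraMap R S u) ^ m * hxy

theorem exists_pow_mul_mem {k R : Type u} [CommRing k] [CommRing R] [Algebra k R] {σ : Type} [Fintype σ]
    (ψ : R →ₐ[k] MvPolynomial σ k) (u : R) (hX : ∀ j, ∃ r, ψ u * X j = ψ r) (y : MvPolynomial σ k) :
    ∃ (n : ℕ) (r : R), ψ u ^ n * y = ψ r := by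
  induction y using MvPolynomial.induction_on with
  | C a => exact ⟨0, algebraMap k R a, by rw [pow_zero, one_mul, AlgHom.commutes]; rfl⟩
  | add p q hp hq =>
    obtain ⟨n, r, hr⟩ := hp
    obtain ⟨m, s, hs⟩ := hq
    exact ⟨n + m, r * u ^ m + s * u ^ n, by
      simp only [map_add, map_mul, map_pow, ← hr, ← hs]; ring⟩
  | mul_X p j hp =>
    obtain ⟨n, r, hr⟩ := hp
    obtain ⟨s, hs⟩ := hX j
    exact ⟨n + 1, r * s, by rw [map_mul, ← hr, ← hs]; ring⟩

/-- The kernel of an evaluation. -/
theorem ker_eval_eq {k : Type u} [CommRing k] {σ : Type} (v : σ → k) :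
    RingHom.ker (MvPolynomial.aeval (R := k) v) = Ideal.span (Set.range fun i => X i - C (v i)) := by
  apply le_antisymm
  · intro x hx
    have h : (Algebra.ofId k (MvPolynomial σ k ⧸ Ideal.span (Set.range fun i => X i - C (v i)))).comp
        (MvPolynomial.aeval (R := k) v) = Ideal.Quotient.mkₐ k _ := by
      refine algHom_ext fun i => ?_
      rw [AlgHom.comp_apply, aeval_X]
      refine ((Ideal.Quotient.mk_eq_mk_iff_sub_mem _ _).mpr ?_).symm
      exact Ideal.subset_span ⟨i, rfl⟩
    have h2 := DFunLike.congr_fun h x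
    rw [AlgHom.comp_apply, RingHom.mem_ker.mp hx, map_zero] at h2
    exact Ideal.Quotient.eq_zero_iff_mem.mp h2.symm
  · rw [Ideal.span_le]
    rintro _ ⟨i, rfl⟩
    simp [RingHom.mem_ker]

theorem isMaximal_ker_eval {k : Type u} [Field k] {σ : Type} (v : σ → k) :
    (RingHom.ker (MvPolynomial.aeval (R := k) v)).IsMaximal :=
  RingHom.ker_isMaximal_of_surjective _ fun a => ⟨C a, by simp⟩

theorem isRegularLocalRing_at_point (k : Type u) [Field k] (t : k)
    (P : Ideal (D k ⧸ idJ k)) [P.IsPrime]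
    (hP : P = Ideal.map (Ideal.Quotient.mk (idJ k))
      (Ideal.span ({X 0, X 1 - 1, X 2, X 3, X 4, X 5 - C t, X 6, X 7, X 8} : Set (D k)))) :
    IsRegularLocalRing (Localization.AtPrime P) ∧ ringKrullDim (Localization.AtPrime P) = 6 := by
  let R := D k ⧸ idJ k
  let ψ : R →ₐ[k] E k := Ideal.Quotient.liftₐ (idJ k) (psi k) fun a ha => RingHom.mem_ker.mp (idJ_le_ker k ha)
  letI : Algebra R (E k) := ψ.toRingHom.toAlgebra
  have hinj : Function.Injective (algebraMap R (E k)) := by
    refine (injective_iff_map_eq_zero _).mpr fun r hr => ?_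
    obtain ⟨x, rfl⟩ := Ideal.Quotient.mk_surjective r
    rw [Ideal.Quotient.eq_zero_iff_mem, ← ker_psi]
    exact hr
  let v : Fin 6 → k := ![0, 0, 1, 0, 0, 1 + t]
  let Q := RingHom.ker (MvPolynomial.aeval (R := k) v)
  haveI hQ : Q.IsMaximal := isMaximal_ker_eval v
  have hpt : (MvPolynomial.aeval (R := k) v).comp (psi k) = MvPolynomial.aeval ![(0 : k), 1, 0, 0, 0, t, 0, 0, 0] := by
    refine algHom_ext fun i => ?_
    fin_cases i <;> simp [psi, v]
  have hPQ : P = Q.comap (algebraMap R (E k)) := by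
    apply Ideal.comap_injective_of_surjective (Ideal.Quotient.mk (idJ k)) Ideal.Quotient.mk_surjective
    show _ = RingHom.ker ((MvPolynomial.aeval (R := k) v).comp (psi k))
    have hker : idJ k ≤ RingHom.ker ((MvPolynomial.aeval (R := k) v).comp (psi k)) := fun x hx => by
      rw [RingHom.mem_ker, AlgHom.comp_apply, RingHom.mem_ker.mp (idJ_le_ker k hx), map_zero]
    have hpts : Ideal.span ({X 0, X 1 - 1, X 2, X 3, X 4, X 5 - C t, X 6, X 7, X 8} : Set (D k)) =
        RingHom.ker ((MvPolynomial.aeval (R := k) v).comp (psi k)) := by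
      rw [hpt, ker_eval_eq]
      congr 1
      ext x
      simp [Set.mem_range, Fin.exists_fin_succ, eq_comm]
    rw [hP, Ideal.comap_map_of_surjective _ Ideal.Quotient.mk_surjective, ← RingHom.ker_eq_comap_bot, Ideal.mk_ker,
      hpts, sup_eq_left.mpr hker]
  obtain ⟨u, huQ, hu⟩ : ∃ u : R, algebraMap R (E k) u ∉ Q ∧ ∀ j, ∃ r, ψ u * X j = ψ r := by
    have hψ : ∀ x, ψ (Ideal.Quotient.mk (idJ k) x) = psi k x := fun x => rfl
    have hgen : ∀ (u : D k), (∃ r, psi k u * X 0 = psi k r) → (∃ r, psi k u * X 1 = psi k r) →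
        ∀ j : Fin 6, ∃ r, ψ (Ideal.Quotient.mk (idJ k) u) * X j = ψ r := by
      intro u h0 h1
      have hlift : ∀ (j : Fin 6) (y : D k), psi k y = X j → ∃ r, psi k u * X j = psi k r := fun j y hy =>
        ⟨u * y, by rw [map_mul, hy]⟩
      intro j
      obtain ⟨r, hr⟩ : ∃ r, psi k u * X j = psi k r := by
        fin_cases j
        · exact h0
        · exact h1
        · exact hlift 2 vb (by simp [psi])
        · exact hlift 3 vc (by simp [psi])
        · exact hlift 4 ve (by simp [psi])
        · exact hlift 5 (vb + vf) (by simp [psi])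
      exact ⟨Ideal.Quotient.mk (idJ k) r, by rw [hψ, hψ, hr]⟩
    by_cases ht : 1 + t = 0
    · refine ⟨Ideal.Quotient.mk (idJ k) (vb * vf - ve * vc), ?_,
        hgen _ ⟨vc * vh - vb * vi, ?_⟩ ⟨vf * vh - ve * vi, ?_⟩⟩
      · show MvPolynomial.aeval (R := k) v (psi k (vb * vf - ve * vc)) ≠ 0
        rw [← AlgHom.comp_apply, hpt]
        simp
        intro h
        rw [h, add_zero] at ht
        exact one_ne_zero ht
      · simp [psi]; ring
      · simp [psi]; ring
    · refine ⟨Ideal.Quotient.mk (idJ k) (L2 k), ?_, hgen _ ⟨L1 k, ?_⟩ ⟨L3 k, ?_⟩⟩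
      · show MvPolynomial.aeval (R := k) v (psi k (L2 k)) ≠ 0
        rw [← AlgHom.comp_apply, hpt]
        simpa [L2] using ht
      · simp [psi, L1, L2]; ring
      · simp [psi, L2, L3]; ring
  subst hPQ
  haveI hloc : IsLocalization.AtPrime (Localization.AtPrime Q) (Q.comap (algebraMap R (E k))) :=
    isLocalization_atPrime hinj (fun y => exists_pow_mul_mem ψ u hu y) Q huQ
  let e : Localization.AtPrime Q ≃+* Localization.AtPrime (Q.comap (algebraMap R (E k))) :=
    (IsLocalization.algEquiv (Q.comap (algebraMap R (E k))).primeCompl (Localization.AtPrime Q)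
      (Localization.AtPrime (Q.comap (algebraMap R (E k))))).toRingEquiv
  haveI : IsRegularLocalRing (Localization.AtPrime Q) := IsRegularRing.isRegularLocalRing_localization Q
  refine ⟨IsRegularLocalRing.of_ringEquiv e, ?_⟩
  rw [← ringKrullDim_eq_of_ringEquiv e, IsLocalization.AtPrime.ringKrullDim_eq_height Q,
    PrimeSpectrum.height_eq_orderHeight ⟨Q, inferInstance⟩,
    SmoothDim.height_maximal_mvPolynomial k 6 ⟨Q, inferInstance⟩ hQ]
  rfl

end Groth.Agent.L3Lib
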